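import Groth.Agent.L27.LimCoh.CanonLim
import Groth.Agent.L27.LimCoh.Embed
import Groth.Agent.L27.NormalSepClosed.ConstSect
import Groth.Agent.L28.ExtShriek.Compact

/-! # Pushforwards from the stages of a limit -/

universe u

open CategoryTheory CategoryTheory.Limits AlgebraicGeometry Opposite

set_option autoImplicit false
set_option linter.style.haveILetI false
set_option linter.unusedSectionVars false
set_option backward.isDefEq.respectTransparency.types false

namespace Groth.L27.EmbedFinitePush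

open LimCoh ConstSect Groth.L28.ExtShriek

noncomputable section

theorem chain_eq {C : Type*} [Category C] {N N₁ N₂ N₃ N₄ V W W' W'' : C} {a : N ⟶ N₁} {b : N₁ ⟶ N₂}
    {t : N₂ ⟶ N₃} {σ : N₃ ⟶ N₄} {f : N₄ ⟶ V} {p₃ : N₃ ⟶ W} {q : W ⟶ V} {p₂ : N₂ ⟶ W'} {r : W' ⟶ W}
    {p₁ : N₁ ⟶ W''} {k : W'' ⟶ W'} {m : W'' ⟶ W} {n : W'' ⟶ V} {m' : N ⟶ W''} {e : N ⟶ V}
    (h1 : σ ≫ f = p₃ ≫ q) (h2 : t ≫ p₃ = p₂ ≫ r) (h3 : b ≫ p₂ = p₁ ≫ k) (h4 : k ≫ r = m)
    (h5 : m ≫ q = n) (h6 : a ≫ p₁ = m') (h7 : m' ≫ n = e) : (a ≫ b ≫ t ≫ σ) ≫ f = e := by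
  simp only [Category.assoc]
  rw [h1, reassoc_of% h2, reassoc_of% h3, reassoc_of% h4, h5, reassoc_of% h6, h7]

variable {X : Scheme.{u}} {I : Type u} [SmallCategory I] {D : I ⥤ Scheme.{u}} {S : Sys D} {c : Cone D}
  (h : ∀ i, D.obj i ⟶ X) (hw : ∀ {i j : I} (g : j ⟶ i), D.map g ≫ h i = h j)
  {ν : c.pt ⟶ X} (hν : ∀ i, prj c i ≫ h i = ν)

/-- The transition between the pushforwards. -/
def transition {i j : I} (g : j ⟶ i) : (EtCoh.push (h i)).obj (S.F i) ⟶ (EtCoh.push (h j)).obj (S.F j) :=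
  (EtCoh.push (h i)).map (S.ψ g) ≫ pushJoin (D.map g) (h i) (hw g) (S.F j)

theorem transition_app {i j : I} (g : j ⟶ i) (V : X.Etale) (s : ((EtCoh.push (h i)).obj (S.F i)).obj.obj (op V)) :
    (transition h hw g).hom.app (op V) s =
      S.res g (midB (D.map g) (h i) (hw g) V) (midB_w (D.map g) (h i) (hw g) V) s := rfl

/-- The diagram of pushforwards. -/
def pushDiag : Iᵒᵖ ⥤ EtCoh.Ab X where
  obj i := (EtCoh.push (h i.unop)).obj (S.F i.unop)
  map g := transition h hw g.unop
  map_id i := sheafHom_ext fun V s => by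
    have e : midB (D.map (𝟙 i.unop)) (h i.unop) (hw (𝟙 i.unop)) V = (𝟙 ((EtCoh.bc (h i.unop)).obj V).left) :=
      pullback.hom_ext ((midB_fstB _ _ _ V).trans (Category.id_comp _).symm)
        ((midB_w _ _ _ V).trans (by rw [D.map_id]; exact (Category.comp_id _).trans (Category.id_comp _).symm))
    exact (transition_app h hw _ V s).trans ((S.res_congr rfl e _ _ s).trans ((S.res_id (𝟙 _)
      (by rw [D.map_id]; exact (Category.id_comp _).trans (Category.comp_id _).symm) s).trans
      (congr($((S.F i.unop).obj.map_id _) s))))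
  map_comp {a b d} g k := sheafHom_ext fun V s => by
    refine (transition_app h hw _ V s).trans ((S.res_comp k.unop g.unop (midB (D.map k.unop) (h b.unop) (hw _) V)
      (midB (D.map g.unop) (h a.unop) (hw _) V) (midB (D.map (k.unop ≫ g.unop)) (h a.unop) (hw _) V)
      (midB_w _ _ _ V) (midB_w _ _ _ V) (midB_w _ _ _ V) ?_ s).symm.trans rfl)
    exact pullback.hom_ext
      ((Category.assoc _ _ _).trans ((congrArg (_ ≫ ·) (midB_fstB _ _ _ V)).trans
        ((midB_fstB _ _ _ V).trans (midB_fstB _ _ _ V).symm)))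
      ((Category.assoc _ _ _).trans ((congrArg (_ ≫ ·) (midB_w _ _ _ V)).trans
        ((Category.assoc _ _ _).symm.trans ((congrArg (· ≫ _) (midB_w _ _ _ V)).trans
          ((Category.assoc _ _ _).trans ((congrArg (_ ≫ ·) (map_w D _ _)).trans (midB_w _ _ _ V).symm))))))

/-- The cocone to the pushforward from the limit. -/
def pushCone (L : Cocn S c) : Cocone (pushDiag (S := S) h hw) where
  pt := (EtCoh.push ν).obj L.M
  ι :=
    { app := fun i => (EtCoh.push (h i.unop)).map (L.a i.unop) ≫ pushJoin (prj c i.unop) (h i.unop) (hν _) L.M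
      naturality := fun a b g => sheafHom_ext fun V s => by
        show L.M.obj.map ((join (prj c b.unop) (h b.unop) (hν _)).app V).op
            ((L.a b.unop).hom.app (op _) ((transition h hw g.unop).hom.app (op V) s)) =
          L.M.obj.map ((join (prj c a.unop) (h a.unop) (hν _)).app V).op ((L.a a.unop).hom.app (op _) s)
        let m : (EtCoh.bc (prj c b.unop)).obj ((EtCoh.bc (h b.unop)).obj V) ⟶
            (EtCoh.bc (prj c a.unop)).obj ((EtCoh.bc (h a.unop)).obj V) :=
          LimCoh.lift (prj c a.unop) (fstB (prj c b.unop) _ ≫ midB (D.map g.unop) (h a.unop) (hw _) V)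
            ((Category.assoc _ _ _).trans ((congrArg (_ ≫ ·) (midB_w _ _ _ V)).trans
              ((Category.assoc _ _ _).symm.trans ((congrArg (· ≫ _) (fstB_w _ _)).trans
                ((Category.assoc _ _ _).trans (congrArg (_ ≫ ·) (prj_w c _)))))))
        rw [transition_app, L.a_res g.unop _ _ m (lift_fstB _ _ _), ← Functor.map_comp_apply, ← op_comp]
        refine congrArg (fun l => L.M.obj.map (Quiver.Hom.op l) _) (bc_hom_ext (prj c a.unop) ?_)
        refine (Category.assoc _ _ _).trans ((congrArg (_ ≫ ·) (lift_fstB _ _ _)).trans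
          ((Category.assoc _ _ _).symm.trans ((congrArg (· ≫ _) (join_fstB _ _ _ V)).trans
            (Eq.trans ?_ (join_fstB _ _ _ V).symm))))
        exact pullback.hom_ext
          ((Category.assoc _ _ _).trans ((congrArg (_ ≫ ·) (midB_fstB _ _ _ V)).trans
            ((midB_fstB _ _ _ V).trans (midB_fstB _ _ _ V).symm)))
          ((Category.assoc _ _ _).trans ((congrArg (_ ≫ ·) (midB_w _ _ _ V)).trans
            ((Category.assoc _ _ _).symm.trans ((congrArg (· ≫ _) (midB_w _ _ _ V)).trans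
              ((Category.assoc _ _ _).trans ((congrArg (_ ≫ ·) (prj_w c _)).trans (midB_w _ _ _ V).symm)))))) }

variable [IsCofiltered I] [∀ i, IsAffineHom (h i)]

theorem exists_rep (L : Cocn S c) (hL : L.IsLim) (V : X.Etale) (hV : Colim.Qcqs V)
    (x : ((EtCoh.push ν).obj L.M).obj.obj (op V)) :
    ∃ (i : Iᵒᵖ) (y : ((pushDiag h hw).obj i).obj.obj (op V)), ((pushCone h hw hν L).ι.app i).hom.app (op V) y = x := by
  obtain ⟨i₀⟩ : Nonempty I := IsCofiltered.nonempty
  have hVi := qcqs_bc (h i₀) V hV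
  obtain ⟨j, g, y, hy⟩ := hL.rep i₀ ((EtCoh.bc (h i₀)).obj V) hVi.1 hVi.2
    (L.M.obj.map ((split (prj c i₀) (h i₀) (hν i₀)).app V).op x)
  refine ⟨op j, (S.F j).obj.map ((join (D.map g) (h i₀) (hw g)).app V).op y, ?_⟩
  show L.M.obj.map ((join (prj c j) (h j) (hν _)).app V).op ((L.a j).hom.app (op _) _) = x
  rw [NatTrans.naturality_apply]
  refine (congrArg (fun z => L.M.obj.map ((join (prj c j) (h j) (hν _)).app V).op
    (((EtCoh.push (prj c j)).obj L.M).obj.map ((join (D.map g) (h i₀) (hw g)).app V).op z)) hy).trans ?_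
  show L.M.obj.map _ (L.M.obj.map ((EtCoh.bc (prj c j)).map ((join (D.map g) (h i₀) (hw g)).app V)).op
    (L.M.obj.map (tr c g ((EtCoh.bc (h i₀)).obj V)).op (L.M.obj.map _ x))) = x
  rw [← Functor.map_comp_apply, ← Functor.map_comp_apply, ← Functor.map_comp_apply, ← op_comp, ← op_comp, ← op_comp]
  refine (congrArg (fun l => L.M.obj.map (Quiver.Hom.op l) x) (bc_hom_ext ν (T := (EtCoh.bc ν).obj V) (b := 𝟙 _) ?_)).trans
    (congr($(L.M.obj.map_id _) x))
  refine Eq.trans ?_ (Category.id_comp _).symm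
  exact chain_eq (split_fstB (prj c i₀) (h i₀) (hν i₀) V)
    (split_fstB (prj c j) (D.map g) (prj_w c g) ((EtCoh.bc (h i₀)).obj V))
    (fstB_nat (prj c j) ((join (D.map g) (h i₀) (hw g)).app V))
    (join_fstB (D.map g) (h i₀) (hw g) V) (midB_fstB (D.map g) (h i₀) (hw g) V)
    (join_fstB (prj c j) (h j) (hν j) V) (midB_fstB (prj c j) (h j) (hν j) V)

theorem exists_map_eq_zero (L : Cocn S c) (hL : L.IsLim) (V : X.Etale) (hV : Colim.Qcqs V) (i : Iᵒᵖ)
    (s : ((pushDiag h hw).obj i).obj.obj (op V)) (hs : ((pushCone h hw hν L).ι.app i).hom.app (op V) s = 0) :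
    ∃ (k : Iᵒᵖ) (a : i ⟶ k), ((pushDiag h hw).map a).hom.app (op V) s = 0 := by
  have hVi := qcqs_bc (h i.unop) V hV
  have hs' : L.M.obj.map ((join (prj c i.unop) (h i.unop) (hν _)).app V).op ((L.a i.unop).hom.app (op _) s) = 0 := hs
  have h0 := congrArg (L.M.obj.map ((split (prj c i.unop) (h i.unop) (hν _)).app V).op) hs'
  rw [← Functor.map_comp_apply, ← op_comp, split_join, map_zero] at h0
  obtain ⟨j, g, hj⟩ := hL.zero i.unop _ hVi.1 hVi.2 s ((congr($(L.M.obj.map_id _) _)).symm.trans h0)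
  refine ⟨op j, g.op, (transition_app h hw _ V s).trans ?_⟩
  refine (Sys.map_res S g (fstB (D.map g) _) (fstB_w (D.map g) _) ((join (D.map g) (h i.unop) (hw g)).app V) _ _ (join_fstB _ _ _ V) s).symm.trans ?_
  rw [hj, map_zero]
  rfl

/-- Maps out of constructible sheaves factor through a stage. -/
theorem exists_factor [CompactSpace X] [QuasiSeparatedSpace X] (L : Cocn S c) (hL : L.IsLim) {F : EtCoh.Ab X}
    (hF : EtPBC.IsConstructible F) (φ : F ⟶ (EtCoh.push ν).obj L.M) :
    ∃ (i : Iᵒᵖ) (φ' : F ⟶ (pushDiag h hw).obj i), φ' ≫ (pushCone h hw hν L).ι.app i = φ := by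
  refine (homCommutes_of_atoms (c := pushCone h hw hν L) hF fun V _ _ n => ⟨fun f => ?_, fun i g hg => ?_⟩).1 φ
  · obtain ⟨i, y, hy⟩ := exists_rep h hw hν L hL V ⟨‹_›, ‹_›⟩ (f.hom.app (op V) (gen V n))
    obtain ⟨k, a, hk⟩ := exists_map_eq_zero h hw hν L hL V ⟨‹_›, ‹_›⟩ i (n • y) (by
      rw [map_nsmul, hy, ← map_nsmul, nsmul_gen, map_zero])
    obtain ⟨g, hg⟩ := exists_hom_of_section V n (((pushDiag h hw).map a).hom.app (op V) y) (by rw [← map_nsmul, hk])
    refine ⟨k, g, ext_gen ?_⟩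
    show ((pushCone h hw hν L).ι.app k).hom.app (op V) (g.hom.app (op V) (gen V n)) = _
    rw [hg, ← hy]
    exact congr($((pushCone h hw hν L).w a).hom.app (op V) y)
  · obtain ⟨k, a, hk⟩ := exists_map_eq_zero h hw hν L hL V ⟨‹_›, ‹_›⟩ i (g.hom.app (op V) (gen V n))
      (congrArg (fun m => m.hom.app (op V) (gen V n)) hg)
    exact ⟨k, a, ext_gen hk⟩

end

section Const

variable {X : Scheme.{u}} (A : AddCommGrpCat.{u + 1})

/-- Maps out of a constant sheaf are determined by the constant sections. -/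
theorem hom_ext_K {G : EtCoh.Ab X} {φ ψ : K A X ⟶ G}
    (h : ∀ (U : X.Etale) (a : A), φ.hom.app (op U) (cst A U a) = ψ.hom.app (op U) (cst A U a)) : φ = ψ :=
  ObjectProperty.hom_ext _ (sheafify_hom_ext X.smallEtaleTopology φ.hom ψ.hom G.property
    (NatTrans.ext (funext fun U => ConcreteCategory.hom_ext _ _ fun a => h U.unop a)))

variable {I : Type u} [SmallCategory I] (D : I ⥤ Scheme.{u}) (c : Cone D)

/-- The constant system. -/
noncomputable def constSys : Sys D where
  F i := K A (D.obj i)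
  ψ g := cmp A (D.map g)
  ψ_id i := hom_ext_K A fun U a => (cmp_cst A _ U a).trans
    ((pushUnit₀_app _ (D.map_id i) _ U _).trans (map_cst A _ a)).symm
  ψ_comp {i j k} h g := hom_ext_K A fun U a => (cmp_cst A _ U a).trans (by
    show _ = (K A (D.obj k)).obj.map ((join (D.map h) (D.map g) (map_w D h g)).app U).op
      ((cmp A (D.map h)).hom.app (op ((EtCoh.bc (D.map g)).obj U)) ((cmp A (D.map g)).hom.app (op U) (cst A U a)))
    rw [cmp_cst, cmp_cst]
    exact (map_cst A _ a).symm)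

/-- The constant sheaf on the limit. -/
noncomputable def constCocn : Cocn (constSys A D) c where
  M := K A c.pt
  a i := cmp A (prj c i)
  comm {i j} g := hom_ext_K A fun U a => (cmp_cst A _ U a).trans (by
    show _ = (K A c.pt).obj.map ((join (prj c j) (D.map g) (prj_w c g)).app U).op
      ((cmp A (prj c j)).hom.app (op ((EtCoh.bc (D.map g)).obj U)) ((cmp A (D.map g)).hom.app (op U) (cst A U a)))
    rw [cmp_cst, cmp_cst]
    exact (map_cst A _ a).symm)

theorem ofCocone_cocone {S : Sys D} (L : Cocn S c) : Cocn.ofCocone L.cocone = L := by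
  have e : ∀ i, (Cocn.ofCocone L.cocone).a i = L.a i := fun i => Equiv.apply_symm_apply _ _
  obtain ⟨M, a, ha⟩ := L
  simp only [Cocn.ofCocone, Cocn.cocone] at e ⊢
  congr 1
  funext i
  exact e i

theorem isLim_constCocn [IsCofiltered I] [∀ (j k : I) (f : j ⟶ k), IsAffineHom (D.map f)]
    [∀ i, CompactSpace (D.obj i)] [∀ i, QuasiSeparatedSpace (D.obj i)] (hc : IsLimit c) :
    (constCocn A D c).IsLim := by
  let L := constCocn A D c
  haveI hiso : ∀ i, IsIso (L.cocone.ι.app i) := fun i => by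
    have : L.cocone.ι.app i = (EtCore.pullConstIso (prj c i.unop)).hom.app A :=
      ((EtCoh.pullPushAdj (prj c i.unop)).homEquiv _ _).injective
        ((Equiv.apply_symm_apply _ _).trans (Adjunction.homEquiv_unit _ _ _ _).symm)
    rw [this]
    exact ((EtCore.pullConstIso (prj c i.unop)).app A).isIso_hom
  have key : ∀ (s : Cocone (diag c (constSys A D))) (i j : Iᵒᵖ),
      inv (L.cocone.ι.app i) ≫ s.ι.app i = inv (L.cocone.ι.app j) ≫ s.ι.app j := by
    intro s
    have step : ∀ {i j : Iᵒᵖ} (g : i ⟶ j), inv (L.cocone.ι.app i) ≫ s.ι.app i = inv (L.cocone.ι.app j) ≫ s.ι.app j :=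
      fun {i j} g => by
        rw [IsIso.inv_comp_eq, ← s.w g]
        conv_rhs => rw [← L.cocone.w g, Category.assoc, IsIso.hom_inv_id_assoc]
    intro i j
    exact (step (IsFiltered.leftToMax i j)).trans (step (IsFiltered.rightToMax i j)).symm
  obtain ⟨i₀⟩ : Nonempty Iᵒᵖ := IsFiltered.nonempty
  have ht : IsColimit L.cocone :=
    { desc := fun s => inv (L.cocone.ι.app i₀) ≫ s.ι.app i₀
      fac := fun s j => by rw [key s i₀ j, IsIso.hom_inv_id_assoc]
      uniq := fun s m hm => by rw [← hm i₀, IsIso.inv_hom_id_assoc] }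
  have e : Cocn.ofCocone L.cocone = L := ofCocone_cocone D c L
  show L.IsLim
  rw [← e]
  exact isLim_ofCocone hc L.cocone ht

end Const

end Groth.L27.EmbedFinitePush
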