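import Groth.Agent.L27.EmbedFinitePush.Geometric
import Groth.Agent.L27.EmbedFinitePush.Stages
import Groth.Agent.L28.FinitePush.Geom
import Groth.Agent.L28.ExtShriek.Pres
import Groth.Agent.L19.Approx.AffineFinite

/-! # Constructible sheaves embed into finite pushforwards of constant sheaves -/

universe u

open CategoryTheory CategoryTheory.Limits AlgebraicGeometry Opposite

set_option autoImplicit false
set_option linter.style.haveILetI false
set_option linter.unusedSectionVars false
set_option backward.isDefEq.respectTransparency.types false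

namespace Groth.L27.EmbedFinitePush

noncomputable section

variable {X : Scheme.{u}}

theorem stalk_subsingleton_kernel_iff {F G : EtCoh.Ab X} (φ : F ⟶ G) {Ω : Type u} [Field Ω] [IsSepClosed Ω]
    (ξ : Spec (CommRingCat.of Ω) ⟶ X) :
    Subsingleton ((EtCoh.stalk ξ).obj (kernel φ)) ↔ Function.Injective ((EtCoh.stalk ξ).map φ) := by
  haveI : PreservesFiniteLimits (EtCoh.stalk ξ) := inferInstance
  let e := (PreservesKernel.iso (EtCoh.stalk ξ) φ).addCommGroupIsoToAddEquiv.toEquiv
  rw [← AddCommGrpCat.mono_iff_injective, Preadditive.mono_iff_isZero_kernel]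
  constructor
  · intro h
    haveI := e.symm.subsingleton
    exact AddCommGrpCat.isZero_of_subsingleton _
  · intro h
    haveI := AddCommGrpCat.subsingleton_of_isZero h
    exact e.subsingleton

variable [CompactSpace X] [QuasiSeparatedSpace X]

/-- A finite pushforward detecting a point. -/
theorem exists_finite_detect {F : EtCoh.Ab X} (hF : EtPBC.IsConstructible F) (x : X) :
    ∃ (Y : Scheme.{u}) (f : Y ⟶ X) (_ : IsFinite f) (_ : LocallyOfFinitePresentation f) (M : Type)
      (_ : AddCommGroup M) (_ : Finite M) (φ : F ⟶ (EtCoh.push f).obj (EtCoh.const Y M)) (Ω : Type u) (_ : Field Ω)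
      (_ : IsSepClosed Ω) (ξ : Spec (CommRingCat.of Ω) ⟶ X),
      ξ.base default = x ∧ Function.Injective ((EtCoh.stalk ξ).map φ) := by
  obtain ⟨Y, ν, hν, M, _, _, φ, Ω, _, _, ξ, hξ, hinj⟩ := exists_detect_at x hF
  haveI := hν
  let P : MorphismProperty Scheme.{u} := @IsFinite
  have hPr : L19.Approx.Cofinal ν P := fun {_} => L19.Approx.cofinal_isFinite ν
  haveI := L19.Approx.nonempty_idx hPr
  haveI := L19.Approx.isDirected_idx hPr
  haveI : IsCofiltered (L19.Approx.Idx ν P)ᵒᵖ := inferInstance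
  haveI : IsConnected (L19.Approx.Idx ν P)ᵒᵖ := IsCofiltered.isConnected _
  let D := L19.Approx.system ν P ⋙ Over.forget X
  let c : Cone D := (Over.forget X).mapCone (L19.Approx.cone ν P)
  have hc : IsLimit c := isLimitOfPreserves (Over.forget X) (L19.Approx.nonempty_isLimit_cone ν P hPr).some
  haveI : ∀ (j k : (L19.Approx.Idx ν P)ᵒᵖ) (a : j ⟶ k), IsAffineHom (D.map a) :=
    fun _ _ a => L19.Approx.isAffineHom_system_map ν P a
  let hh : ∀ i, D.obj i ⟶ X := fun i => ((L19.Approx.system ν P).obj i).hom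
  haveI hfin : ∀ i, IsFinite (hh i) := L19.Approx.prop_system_hom ν P
  haveI : ∀ i, IsAffineHom (hh i) := fun i => inferInstance
  haveI : ∀ i, CompactSpace (D.obj i) := fun i => QuasiCompact.compactSpace_of_compactSpace (hh i)
  haveI : ∀ i, QuasiSeparatedSpace (D.obj i) := fun i => quasiSeparatedSpace_of_quasiSeparated (hh i)
  let A : AddCommGrpCat.{u + 1} := AddCommGrpCat.of (ULift.{u + 1} M)
  let L := constCocn A D c
  have hcν : ∀ i, LimCoh.prj c i ≫ hh i = ν :=
    fun i => Over.w ((L19.Approx.cone ν P).π.app i)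
  have hwh : ∀ {i j : (L19.Approx.Idx ν P)ᵒᵖ} (g : j ⟶ i), D.map g ≫ hh i = hh j :=
    fun a => L19.Approx.hom_transition ν P a
  obtain ⟨i, φ', hφ'⟩ := exists_factor hh hwh hcν L (isLim_constCocn A D c hc) hF φ
  refine ⟨D.obj i.unop, hh i.unop, hfin _, L19.Approx.lfp_system_hom ν P _,
    M, inferInstance, inferInstance, φ', Ω, inferInstance, inferInstance, ξ, hξ, fun a b hab => hinj ?_⟩
  have e : (EtCoh.stalk ξ).map φ = (EtCoh.stalk ξ).map φ' ≫ (EtCoh.stalk ξ).map ((pushCone hh hwh hcν L).ι.app i) :=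
    (congrArg (EtCoh.stalk ξ).map hφ'.symm).trans ((EtCoh.stalk ξ).map_comp _ _)
  exact (ConcreteCategory.congr_hom e a).trans ((congrArg _ hab).trans (ConcreteCategory.congr_hom e b).symm)

/-- Constructible sheaves embed into finite sums of finite pushforwards. -/
theorem exists_embedding {F : EtCoh.Ab X} (hF : EtPBC.IsConstructible F) :
    ∃ (n : ℕ) (Y : Fin n → Scheme.{u}) (f : ∀ i, Y i ⟶ X) (_ : ∀ i, IsFinite (f i))
      (_ : ∀ i, LocallyOfFinitePresentation (f i)) (M : Fin n → Type) (_ : ∀ i, AddCommGroup (M i))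
      (_ : ∀ i, Finite (M i)) (ι : F ⟶ ⨁ fun i => (EtCoh.push (f i)).obj (EtCoh.const (Y i) (M i))), Mono ι := by
  classical
  choose Y f hf hf' M iM fM φ Ω iΩ sΩ ξ hξ hinj using exists_finite_detect hF
  haveI := hf; haveI := hf'
  have hK : ∀ x, EtPBC.IsConstructible (kernel (φ x)) := fun x =>
    (L28.Strata.isConstructible_kernel_cokernel (φ x) hF (L28.FinitePush.isConstructible_push (f x)
      (L28.FinitePush.isConstructible_of_isFLC (L28.ExtShriek.isFLC_const (Y x) (M x))))).1
  let Z : X → Set X := fun x => {z | ∀ (Ω : Type u) [Field Ω] [IsSepClosed Ω] (ξ : Spec (CommRingCat.of Ω) ⟶ X),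
    ξ.base default = z → Subsingleton ((EtCoh.stalk ξ).obj (kernel (φ x)))}
  have hZx : ∀ x, x ∈ Z x := fun x Ω' _ _ ξ' hξ' =>
    haveI : Subsingleton ((EtCoh.stalk (ξ x)).obj (kernel (φ x))) := (stalk_subsingleton_kernel_iff _ _).2 (hinj x)
    L28.ExtShriek.subsingleton_stalk_all (hK x) (ξ x) Ω' ξ' (hξ'.trans (hξ x).symm)
  obtain ⟨t, ht⟩ := (CompactSpace.isCompact_univ (X := WithConstructibleTopology X)).elim_finite_subcover
    (fun x => (WithTopology.ofTopology : WithConstructibleTopology X → X) ⁻¹' Z x)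
    (fun x => L28.ExtShriek.isOpen_constructible (L28.Locus.isConstructible_zero_stalks (hK x)))
    (fun z _ => Set.mem_iUnion.2 ⟨WithTopology.ofTopology z, hZx _⟩)
  obtain ⟨m, ⟨σ⟩⟩ := Finite.exists_equiv_fin t
  refine ⟨m, fun k => Y (σ.symm k).1, fun k => f _, fun k => hf _, fun k => hf' _, fun k => M (σ.symm k).1,
    fun k => iM _, fun k => fM _, biproduct.lift fun k => φ (σ.symm k).1, ?_⟩
  refine (EtSite.mono_iff_stalks _).2 fun Ω' _ _ ξ' => ?_
  obtain ⟨x, hx, hz⟩ := Set.mem_iUnion₂.1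
    (ht (Set.mem_univ (WithTopology.toTopology (constructibleTopology X) (ξ'.base default))))
  have hi := (stalk_subsingleton_kernel_iff (φ x) ξ').1 (hz Ω' ξ' rfl)
  intro a b hab
  refine hi ?_
  obtain ⟨k, hk⟩ := σ.symm.surjective ⟨x, hx⟩
  obtain rfl : (σ.symm k).1 = x := congrArg Subtype.val hk
  have e : (EtCoh.stalk ξ').map (biproduct.lift fun k => φ (σ.symm k).1) ≫
      (EtCoh.stalk ξ').map (biproduct.π (fun i => (EtCoh.push (f (σ.symm i).1)).obj
        (EtCoh.const (Y (σ.symm i).1) (M (σ.symm i).1))) k) = (EtCoh.stalk ξ').map (φ (σ.symm k).1) := by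
    rw [← Functor.map_comp, biproduct.lift_π]
  rw [← e, ConcreteCategory.comp_apply, ConcreteCategory.comp_apply, hab]

end

end Groth.L27.EmbedFinitePush
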