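import Groth.Agent.L27.AffineEfface.Core
import Mathlib.AlgebraicGeometry.Normalization
import Mathlib.AlgebraicGeometry.Morphisms.QuasiSeparated
import Mathlib.AlgebraicGeometry.Morphisms.QuasiCompact

/-! # Constructible sheaves map to integral pushforwards of constant sheaves, injectively at a given point -/

universe u

open CategoryTheory CategoryTheory.Limits AlgebraicGeometry Opposite TopologicalSpace

set_option autoImplicit false
set_option linter.style.haveILetI false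
set_option linter.unusedSectionVars false
set_option backward.isDefEq.respectTransparency.types false

namespace Groth.L27.EmbedFinitePush

open ConstSect AffineEfface

noncomputable section

variable {X : Scheme.{u}} (x : X)

instance quasiCompact_geom [QuasiSeparatedSpace X] : QuasiCompact (geom x) := quasiCompact_of_compactSpace _

instance quasiSeparated_geom : QuasiSeparated (geom x) := QuasiSeparated.of_comp (geom x) X.toSpecΓ

variable [QuasiSeparatedSpace X]

/-- The normalisation of the ambient scheme in the geometric point. -/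
abbrev Yx : Scheme.{u} := (geom x).normalization

/-- The generic geometric point of the normalisation. -/
abbrev η : Spec (CommRingCat.of (Kbar x)) ⟶ Yx x := (geom x).toNormalization

theorem η_ν : η x ≫ (geom x).fromNormalization = geom x := (geom x).toNormalization_fromNormalization

theorem η_mem (O : (Yx x).Opens) (h : (O : Set (Yx x)).Nonempty) (p : Spec (CommRingCat.of (Kbar x))) :
    η x p ∈ O := by
  obtain ⟨q, hq⟩ := (η x).denseRange.exists_mem_open O.2 h
  rwa [Subsingleton.elim (α := PrimeSpectrum (Kbar x)) p q]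

theorem exists_closedImmersion_nhd (y : Yx x) :
    ∃ V : (Yx x).Opens, IsAffineOpen V ∧ y ∈ V ∧
      ∃ (T : Scheme.{u}) (_ : IsAffine T) (_ : IsIntegral T) (_ : IsSepClosed T.functionField)
        (j : (V : Scheme.{u}) ⟶ T), IsClosedImmersion j ∧ ∀ t : T, IsIntegrallyClosed (T.presheaf.stalk t) := by
  obtain ⟨_, ⟨U, hU, rfl⟩, hyU, -⟩ := X.isBasis_affineOpens.exists_subset_of_mem_open
    (Set.mem_univ ((geom x).fromNormalization y)) isOpen_univ
  let V := (geom x).fromNormalization ⁻¹ᵁ U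
  have hV : IsAffineOpen V := hU.preimage _
  refine ⟨V, hV, hyU, ?_⟩
  haveI : IsAffine (V : Scheme.{u}) := hV
  have htop : geom x ⁻¹ᵁ U = ⊤ := by
    refine top_le_iff.1 fun p _ => ?_
    have h : η x p ∈ V := η_mem x V ⟨y, hyU⟩ p
    show geom x p ∈ U
    rw [← η_ν x, Scheme.Hom.comp_apply]
    exact h
  letI : Algebra Γ(X, U) Γ(Spec (CommRingCat.of (Kbar x)), geom x ⁻¹ᵁ U) := ((geom x).app U).hom.toAlgebra
  let e₁ : Γ(Spec (CommRingCat.of (Kbar x)), geom x ⁻¹ᵁ U) ≅ CommRingCat.of (Kbar x) :=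
    (Spec (CommRingCat.of (Kbar x))).presheaf.mapIso (eqToIso htop.symm).op ≪≫ Scheme.ΓSpecIso _
  letI : Algebra Γ(X, U) (Kbar x) :=
    (e₁.hom.hom.comp (algebraMap Γ(X, U) Γ(Spec (CommRingCat.of (Kbar x)), geom x ⁻¹ᵁ U))).toAlgebra
  let e₂ : Γ(Spec (CommRingCat.of (Kbar x)), geom x ⁻¹ᵁ U) ≃+* (PUnit.{u + 1} → Kbar x) :=
    e₁.commRingCatIsoToRingEquiv.trans (RingEquiv.piUnique fun _ : PUnit.{u + 1} => Kbar x).symm
  let e₃ : Γ(Spec (CommRingCat.of (Kbar x)), geom x ⁻¹ᵁ U) ≃ₐ[Γ(X, U)] (PUnit.{u + 1} → Kbar x) :=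
    AlgEquiv.ofRingEquiv (f := e₂) fun r => funext fun _ => rfl
  let e₄ : Γ(Yx x, V) ≅ CommRingCat.of (PR Γ(X, U) fun _ : PUnit.{u + 1} => Kbar x) :=
    (geom x).normalizationObjIso hU ≪≫ e₃.mapIntegralClosure.toRingEquiv.toCommRingCatIso
  obtain ⟨T, h1, h2, h3, j, hj, hN⟩ := exists_closedImmersion Γ(X, U) fun _ : PUnit.{u + 1} => Kbar x
  refine ⟨T, h1, h2, h3, hV.isoSpec.hom ≫ Spec.map e₄.inv ≫ j, ?_, hN⟩
  haveI := hj
  infer_instance

variable {A : AddCommGrpCat.{u + 1}}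

theorem isIso_cmp_η : IsIso (cmp A (η x)) := by
  refine isIso_cmp A (η x) (fun U hU => ?_) fun U z => ?_
  · haveI : AlgebraicGeometry.Etale U.hom := U.prop
    refine (AffineEfface.nonempty_bc_iff (K := fun _ : PUnit.{u + 1} => Kbar x) (fun _ => η x) PUnit.unit U).2 ?_
    exact η_mem x ⟨Set.range U.hom, U.hom.isOpenMap.isOpen_range⟩ ⟨_, hU.some, rfl⟩ default
  · haveI : AlgebraicGeometry.Etale U.hom := U.prop
    obtain ⟨V, hV, hzV, T, hT₁, hT₂, hT₃, j, hj, hN⟩ := exists_closedImmersion_nhd x (U.hom z)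
    haveI := hj
    obtain ⟨_, ⟨(W₀ : U.left.Opens), hW₀, rfl⟩, hzW, hWV⟩ :=
      U.left.isBasis_affineOpens.exists_subset_of_mem_open (show z ∈ U.hom ⁻¹ᵁ V from hzV) (U.hom ⁻¹ᵁ V).2
    haveI : IsAffine (W₀ : Scheme.{u}) := hW₀
    let φ : (W₀ : Scheme.{u}) ⟶ (V : Scheme.{u}) := U.hom.resLE V W₀ hWV
    haveI : AlgebraicGeometry.Etale φ := IsZariskiLocalAtSource.resLE (P := @AlgebraicGeometry.Etale) (f := U.hom) hWV ‹_›
    obtain ⟨ι, _, W, e, he⟩ := NormalSepClosed.exists_splitting hN j φ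
    obtain ⟨k, w, hw⟩ : ∃ k w, (Sigma.ι (fun k => (W k : Scheme.{u})) k ≫ e.hom) w = (⟨z, hzW⟩ : W₀) := by
      obtain ⟨v, hv⟩ := e.hom.surjective ⟨z, hzW⟩
      obtain ⟨⟨k, w⟩, hw⟩ := (sigmaMk fun k => (W k : Scheme.{u})).surjective v
      rw [sigmaMk_mk] at hw
      exact ⟨k, w, (Scheme.Hom.comp_apply _ _ _).trans ((congrArg _ hw).trans hv)⟩
    let W' : (Yx x).Etale := Scheme.Etale.mk ((W k).ι ≫ V.ι)
    let g : W' ⟶ U := MorphismProperty.Over.homMk
      (Sigma.ι (fun k => (W k : Scheme.{u})) k ≫ e.hom ≫ W₀.ι) (by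
      show (_ ≫ _ ≫ W₀.ι) ≫ U.hom = (W k).ι ≫ V.ι
      rw [← he k, Category.assoc, Category.assoc, Category.assoc, Category.assoc, Scheme.Hom.resLE_comp_ι])
    refine ⟨W', g, w, ?_, ?_⟩
    · show (Sigma.ι (fun k => (W k : Scheme.{u})) k ≫ e.hom ≫ W₀.ι) w = z
      rw [← Category.assoc, Scheme.Hom.comp_apply, hw]
      rfl
    · haveI : Subsingleton ((EtCoh.bc (η x)).obj W').left :=
        ⟨fun a b => (pullback.snd ((W k).ι ≫ V.ι) (η x)).isOpenEmbedding.injective
          (Subsingleton.elim (α := PrimeSpectrum (Kbar x)) _ _)⟩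
      exact ⟨Set.subsingleton_univ.isPreirreducible⟩

/-- A map to an integral pushforward of a constant sheaf, injective at the given point. -/
theorem exists_detect_at [CompactSpace X] {F : EtCoh.Ab X} (hF : EtPBC.IsConstructible F) :
    ∃ (Y : Scheme.{u}) (ν : Y ⟶ X) (_ : IsIntegralHom ν) (M : Type) (_ : AddCommGroup M) (_ : Finite M)
      (φ : F ⟶ (EtCoh.push ν).obj (EtCoh.const Y M)) (Ω : Type u) (_ : Field Ω) (_ : IsSepClosed Ω)
      (ξ : Spec (CommRingCat.of Ω) ⟶ X),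
      ξ.base default = x ∧ Function.Injective ((EtCoh.stalk ξ).map φ) := by
  obtain ⟨m, M, iM, fM, hM⟩ := exists_finite_types hF
  obtain ⟨k, hk⟩ := hM x
  let ν : Yx x ⟶ X := (geom x).fromNormalization
  let p := η x
  let A : AddCommGrpCat.{u + 1} := AddCommGrpCat.of (ULift.{u + 1} (M k))
  haveI : IsSepClosed (IsLocalRing.ResidueField (Kbar x)) := isSepClosed_residueField _
  let ζ : Spec (CommRingCat.of (IsLocalRing.ResidueField (Kbar x))) ⟶ Yx x := EtSite.closedPt (Kbar x) ≫ p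
  have hζ : (ζ ≫ ν) default = x := by
    rw [Category.assoc, η_ν, Scheme.Hom.comp_apply]
    exact (congrArg (geom x) (Subsingleton.elim (α := PrimeSpectrum (Kbar x)) _ _)).trans (geom_default _)
  obtain ⟨e⟩ := hk _ (ζ ≫ ν) hζ
  obtain ⟨hiso⟩ := exists_iso_const (Kbar x) ((EtCoh.pull p).obj ((EtCoh.pull ν).obj F)) A
    ((EtSite.stalkPullIso p (EtSite.closedPt (Kbar x))).app _ ≪≫ (EtSite.stalkPullIso ν ζ).app F ≪≫ e)
  haveI := isIso_cmp_η (A := A) x
  let ψ : (EtCoh.pull ν).obj F ⟶ ConstSect.K A (Yx x) :=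
    (EtCoh.pullPushAdj p).homEquiv _ _ hiso.hom ≫ inv (cmp A p)
  have h1 : ψ ≫ cmp A p = (EtCoh.pullPushAdj p).homEquiv _ _ hiso.hom := by
    show (_ ≫ inv (cmp A p)) ≫ _ = _
    rw [Category.assoc, IsIso.inv_hom_id, Category.comp_id]
  let φ : F ⟶ (EtCoh.push ν).obj (EtCoh.const (Yx x) (M k)) := (EtCoh.pullPushAdj ν).homEquiv _ _ ψ
  refine ⟨_, ν, inferInstance, M k, inferInstance, inferInstance, φ, _, inferInstance, inferInstance, ζ ≫ ν, hζ, ?_⟩
  have hc : cmp A p = (EtCoh.pullPushAdj p).homEquiv _ _ ((EtCore.pullConstIso p).hom.app A) :=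
    (Adjunction.homEquiv_unit _ _ _ _).symm
  rw [hc, ← Adjunction.homEquiv_naturality_left] at h1
  have h2 := ((EtCoh.pullPushAdj p).homEquiv _ _).injective h1
  haveI : IsIso ((EtCoh.pull p).map ψ ≫ (EtCore.pullConstIso p).hom.app A) := by rw [h2]; infer_instance
  haveI : IsIso ((EtCoh.pull p).map ψ) := IsIso.of_isIso_comp_right _ ((EtCore.pullConstIso p).hom.app A)
  have hψinj : Function.Injective ((EtCoh.stalk ζ).map ψ) := by
    haveI : IsIso ((EtCoh.stalk ζ).map ψ) :=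
      (NatIso.isIso_map_iff (EtSite.stalkPullIso p (EtSite.closedPt (Kbar x))) ψ).1
        (inferInstanceAs (IsIso ((EtCoh.stalk (EtSite.closedPt (Kbar x))).map ((EtCoh.pull p).map ψ))))
    exact (ConcreteCategory.bijective_of_isIso _).1
  have hψφ : (EtCoh.pull ν).map φ ≫ (EtCoh.pullPushAdj ν).counit.app _ = ψ :=
    ((EtCoh.pullPushAdj ν).homEquiv_counit _ _ φ).symm.trans (Equiv.symm_apply_apply _ _)
  have hφ : Function.Injective ((EtCoh.stalk ζ).map ((EtCoh.pull ν).map φ)) := fun a b hab => hψinj (by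
    rw [← hψφ, Functor.map_comp, ConcreteCategory.comp_apply, ConcreteCategory.comp_apply, hab])
  intro a b hab
  obtain ⟨a', rfl⟩ := (ConcreteCategory.bijective_of_isIso ((EtSite.stalkPullIso ν ζ).hom.app F)).2 a
  obtain ⟨b', rfl⟩ := (ConcreteCategory.bijective_of_isIso ((EtSite.stalkPullIso ν ζ).hom.app F)).2 b
  refine congrArg ((EtSite.stalkPullIso ν ζ).hom.app F) (hφ ?_)
  refine (ConcreteCategory.bijective_of_isIso ((EtSite.stalkPullIso ν ζ).hom.app _)).1 ?_
  have hn := (EtSite.stalkPullIso ν ζ).hom.naturality φ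
  exact (ConcreteCategory.congr_hom hn a').trans (hab.trans (ConcreteCategory.congr_hom hn b').symm)

end

end Groth.L27.EmbedFinitePush
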